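import Cfsg.Prelude.Def_Blocks
import Cfsg.Agent.Blocks.PPart
import Cfsg.Agent.Characters.Core

/-!
# (M,23) of S4929/S4928, piece [NORM] (helper994)

`sm w P` : the sum of `w g` over the `g` with `P g`.

* `Sc p v g` : the `p`-part of `g` is conjugate to `v`; `Sp p v T` : `C(v) = ⟨v⟩ × T`;
* `section_sum` : `p |T| ∑_{Sc p v} w = |G| ∑_{t ∈ T, p ∤ o(t)} w (v t)` for class functions `w`;
* `class_sum` : `|C(z)| ∑_{g ~ z} w g = |G| w z`;
* `five_part` : `5 ∑_{Sc 5 u} |X|² = |G|` if `X (u t) = a θ(t)`, `θ` irreducible and zero on the elements of order divisible by `5`;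
* `card_div`, `overlap` : the elements of order divisible by `5` in `L` (`|C_L(y)| = 10`), `55 ∑_{5A ∩ 11A} |X|² ≤ |G|`;
* `norm_total` : the inequality.
-/

set_option autoImplicit false
set_option linter.unusedSectionVars false
set_option linter.unusedVariables false
set_option linter.unusedSimpArgs false

namespace Cfsg.Agent.H994.M23.Norm

open Cfsg Cfsg.Agent.Blocks.PPart
open scoped ComplexConjugate

section

variable {G : Type*} [Group G]

/-- the sum of `w` over the elements with `P` -/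
noncomputable def sm [Fintype G] (w : G → ℝ) (P : G → Prop) : ℝ := ∑ g : G, Set.indicator {g | P g} w g

theorem sm_eq [Fintype G] (w : G → ℝ) (P : G → Prop) [DecidablePred P] : sm w P = ∑ g : G with P g, w g := by
  unfold sm
  rw [Finset.sum_filter]
  refine Finset.sum_congr rfl fun g _ => ?_
  by_cases h : P g
  · rw [if_pos h, Set.indicator_of_mem (show g ∈ {g | P g} from h)]
  · rw [if_neg h, Set.indicator_of_notMem (show g ∉ {g | P g} from h)]

theorem sm_congr [Fintype G] {w w' : G → ℝ} {P P' : G → Prop} (h : ∀ g, P g ↔ P' g) (hw : ∀ g, P g → w g = w' g) :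
    sm w P = sm w' P' := by
  refine Finset.sum_congr rfl fun g _ => ?_
  by_cases hg : P g
  · rw [Set.indicator_of_mem (show g ∈ {g | P g} from hg), Set.indicator_of_mem (show g ∈ {g | P' g} from (h g).1 hg),
      hw g hg]
  · rw [Set.indicator_of_notMem (show g ∉ {g | P g} from hg),
      Set.indicator_of_notMem (show g ∉ {g | P' g} from fun h' => hg ((h g).2 h'))]

theorem sm_mono [Fintype G] {w w' : G → ℝ} {P P' : G → Prop} (h : ∀ g, P g → P' g) (hw : ∀ g, P g → w g ≤ w' g)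
    (hw' : ∀ g, 0 ≤ w' g) : sm w P ≤ sm w' P' := by
  refine Finset.sum_le_sum fun g _ => ?_
  by_cases hg : P g
  · rw [Set.indicator_of_mem (show g ∈ {g | P g} from hg), Set.indicator_of_mem (show g ∈ {g | P' g} from h g hg)]
    exact hw g hg
  · rw [Set.indicator_of_notMem (show g ∉ {g | P g} from hg)]
    exact Set.indicator_nonneg (fun g _ => hw' g) g

theorem sm_one [Fintype G] (P : G → Prop) : sm (fun _ => 1) P = Nat.card {g : G // P g} := by
  classical
  rw [sm_eq, Finset.sum_const, nsmul_eq_mul, mul_one, Nat.card_eq_fintype_card, Fintype.card_subtype]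

/-- the `p`-part is conjugate to `v` -/
def Sc (p : ℕ) (v g : G) : Prop := ∃ x, IsPPart p g x ∧ IsConj v x

theorem Sc.conj {p : ℕ} {v g : G} (h : Sc p v g) (c : G) : Sc p v (c * g * c⁻¹) := by
  obtain ⟨x, hx, hv⟩ := h
  exact ⟨c * x * c⁻¹, isPPart_conj hx c, hv.trans (isConj_iff.2 ⟨c, rfl⟩)⟩

theorem Sc.conj_iff {p : ℕ} {v g : G} (c : G) : Sc p v (c * g * c⁻¹) ↔ Sc p v g := by
  refine ⟨fun h => ?_, fun h => h.conj c⟩
  have h1 := h.conj c⁻¹
  have h2 : c⁻¹ * (c * g * c⁻¹) * c⁻¹⁻¹ = g := by group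
  rwa [h2] at h1

/-- `C(v) = ⟨v⟩ × T` -/
structure Sp (p : ℕ) (v : G) (T : Subgroup G) : Prop where
  ord : orderOf v = p
  le : T ≤ Subgroup.centralizer ({v} : Set G)
  card : Nat.card (Subgroup.centralizer ({v} : Set G)) = p * Nat.card T
  split : ∀ c ∈ Subgroup.centralizer ({v} : Set G), ∃ i : ℕ, ∃ t ∈ T, c = v ^ i * t
  disj : Disjoint (Subgroup.zpowers v) T

theorem Sp.comm {p : ℕ} {v : G} {T : Subgroup G} (h : Sp p v T) {t : G} (ht : t ∈ T) : Commute v t :=
  (Subgroup.mem_centralizer_singleton_iff.1 (h.le ht)).symm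

theorem Sp.reg_mem {p : ℕ} [hp : Fact p.Prime] {v : G} {T : Subgroup G} (h : Sp p v T) {y : G}
    (hy : y ∈ Subgroup.centralizer ({v} : Set G)) (hp' : ¬ p ∣ orderOf y) : y ∈ T := by
  obtain ⟨i, t, ht, rfl⟩ := h.split y hy
  have hc : Commute (v ^ i) t := (h.comm ht).pow_left i
  have h1 : (v ^ i) ^ orderOf (v ^ i * t) * t ^ orderOf (v ^ i * t) = 1 := by
    rw [← hc.mul_pow, pow_orderOf_eq_one]
  have h2 : (v ^ i) ^ orderOf (v ^ i * t) ∈ T := by
    rw [eq_inv_of_mul_eq_one_left h1]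
    exact inv_mem (pow_mem ht _)
  have h3 : (v ^ i) ^ orderOf (v ^ i * t) ∈ Subgroup.zpowers v := pow_mem (pow_mem (Subgroup.mem_zpowers v) _) _
  have h4 : (v ^ i) ^ orderOf (v ^ i * t) = 1 := by
    have h5 : (v ^ i) ^ orderOf (v ^ i * t) ∈ Subgroup.zpowers v ⊓ T := ⟨h3, h2⟩
    rw [disjoint_iff.1 h.disj] at h5
    exact Subgroup.mem_bot.1 h5
  rw [← pow_mul, ← orderOf_dvd_iff_pow_eq_one, h.ord] at h4
  rcases (Nat.Prime.dvd_mul hp.out).1 h4 with h5 | h5
  · rw [orderOf_dvd_iff_pow_eq_one.1 (by rw [h.ord]; exact h5), one_mul]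
    exact ht
  · exact absurd h5 hp'

theorem Sp.ppart {p : ℕ} [hp : Fact p.Prime] {v : G} {T : Subgroup G} (h : Sp p v T) {t : G} (ht : t ∈ T)
    (hp' : ¬ p ∣ orderOf t) : IsPPart p (v * t) v :=
  isPPart_mul (h.comm ht) ⟨1, by rw [h.ord, pow_one]⟩ hp'

theorem Sp.ppart_iff {p : ℕ} [hp : Fact p.Prime] {v : G} {T : Subgroup G} (h : Sp p v T) (g : G) :
    IsPPart p g v ↔ ∃ t ∈ T, ¬ p ∣ orderOf t ∧ v * t = g := by
  constructor
  · rintro ⟨y, hy, hc, -, hy'⟩
    exact ⟨y, h.reg_mem (Subgroup.mem_centralizer_singleton_iff.2 hc.symm.eq) hy', hy', hy⟩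
  · rintro ⟨t, ht, ht', rfl⟩
    exact h.ppart ht ht'

/-- the number of `c` with `c v c⁻¹ = x` -/
theorem card_conj [Finite G] {v x : G} (h : IsConj v x) :
    Nat.card {c : G // c * v * c⁻¹ = x} = Nat.card (Subgroup.centralizer ({v} : Set G)) := by
  obtain ⟨a, ha⟩ := isConj_iff.1 h
  refine Nat.card_congr
    { toFun := fun c => ⟨a⁻¹ * c.1, ?_⟩
      invFun := fun c => ⟨a * c.1, ?_⟩
      left_inv := fun c => Subtype.ext (mul_inv_cancel_left _ _)
      right_inv := fun c => Subtype.ext (inv_mul_cancel_left _ _) }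
  · rw [Subgroup.mem_centralizer_singleton_iff]
    have h1 : c.1 * v * c.1⁻¹ = a * v * a⁻¹ := c.2.trans ha.symm
    have h2 : c.1 * v = a * v * a⁻¹ * c.1 := by rw [← h1]; group
    calc a⁻¹ * c.1 * v = a⁻¹ * (c.1 * v) := by group
      _ = a⁻¹ * (a * v * a⁻¹ * c.1) := by rw [h2]
      _ = _ := by group
  · have h1 := Subgroup.mem_centralizer_singleton_iff.1 c.2
    calc a * c.1 * v * (a * c.1)⁻¹ = a * (c.1 * v) * c.1⁻¹ * a⁻¹ := by group
      _ = a * (v * c.1) * c.1⁻¹ * a⁻¹ := by rw [h1]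
      _ = _ := by rw [← ha]; group

/-- **Sections.** -/
theorem section_sum [Fintype G] {p : ℕ} [hp : Fact p.Prime] {v : G} {T : Subgroup G} [Fintype T] (h : Sp p v T)
    {w : G → ℝ} (hw : ∀ g c, w (c * g * c⁻¹) = w g) :
    (p : ℝ) * Nat.card T * sm w (Sc p v) = Nat.card G * sm (fun t : T => w (v * t)) (fun t : T => ¬ p ∣ orderOf t) := by
  classical
  have e1 : ∀ c : G, ∑ g : G, (if IsPPart p g (c * v * c⁻¹) then w g else 0) =
      sm (fun t : T => w (v * t)) (fun t : T => ¬ p ∣ orderOf t) := by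
    intro c
    rw [← Equiv.sum_comp (MulAut.conj c).toEquiv]
    have e2 : ∀ g : G, (if IsPPart p ((MulAut.conj c).toEquiv g) (c * v * c⁻¹) then w ((MulAut.conj c).toEquiv g) else 0) =
        if IsPPart p g v then w g else 0 := by
      intro g
      have h1 : (MulAut.conj c).toEquiv g = c * g * c⁻¹ := rfl
      rw [h1, hw]
      have h2 : IsPPart p (c * g * c⁻¹) (c * v * c⁻¹) ↔ IsPPart p g v := by
        refine ⟨fun h3 => ?_, fun h3 => isPPart_conj h3 c⟩
        have h4 := isPPart_conj h3 c⁻¹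
        have h5 : c⁻¹ * (c * g * c⁻¹) * c⁻¹⁻¹ = g := by group
        have h6 : c⁻¹ * (c * v * c⁻¹) * c⁻¹⁻¹ = v := by group
        rwa [h5, h6] at h4
      simp only [h2]
    rw [Finset.sum_congr rfl fun g _ => e2 g, ← Finset.sum_filter, sm_eq]
    symm
    refine Finset.sum_bij (fun t _ => v * (t : G)) ?_ ?_ ?_ ?_
    · intro t ht
      rw [Finset.mem_filter] at ht ⊢
      exact ⟨Finset.mem_univ _, h.ppart t.2 (by rw [Subgroup.orderOf_coe]; exact ht.2)⟩
    · intro t _ t' _ htt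
      exact Subtype.ext (mul_left_cancel htt)
    · intro g hg
      rw [Finset.mem_filter] at hg
      obtain ⟨t, ht, ht', rfl⟩ := (h.ppart_iff g).1 hg.2
      exact ⟨⟨t, ht⟩, Finset.mem_filter.2 ⟨Finset.mem_univ _, by rwa [← Subgroup.orderOf_coe]⟩, rfl⟩
    · intro t _
      rfl
  have e3 : ∑ c : G, ∑ g : G, (if IsPPart p g (c * v * c⁻¹) then w g else 0) =
      Nat.card G * sm (fun t : T => w (v * t)) (fun t : T => ¬ p ∣ orderOf t) := by
    rw [Finset.sum_congr rfl fun c _ => e1 c, Finset.sum_const, nsmul_eq_mul, Finset.card_univ, Nat.card_eq_fintype_card]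
  rw [← e3, Finset.sum_comm]
  unfold sm
  rw [Finset.mul_sum]
  refine Finset.sum_congr rfl fun g _ => ?_
  by_cases hg : Sc p v g
  · obtain ⟨x, hx, hvx⟩ := id hg
    rw [Set.indicator_of_mem (show g ∈ {g | Sc p v g} from hg), ← Finset.sum_filter, Finset.sum_const, nsmul_eq_mul]
    have h1 : (Finset.univ.filter fun c : G => IsPPart p g (c * v * c⁻¹)).card = p * Nat.card T := by
      rw [← h.card, ← card_conj hvx, Nat.card_eq_fintype_card, Fintype.card_subtype]
      congr 1
      ext c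
      rw [Finset.mem_filter, Finset.mem_filter]
      refine and_congr_right fun _ => ⟨fun h2 => isPPart_unique h2 hx, fun h2 => by rw [h2]; exact hx⟩
    rw [h1]
    push_cast
    rfl
  · rw [Set.indicator_of_notMem (show g ∉ {g | Sc p v g} from hg), mul_zero]
    symm
    refine Finset.sum_eq_zero fun c _ => if_neg fun h1 => hg ⟨_, h1, isConj_iff.2 ⟨c, rfl⟩⟩

/-- **Classes.** -/
theorem class_sum [Fintype G] (z : G) {w : G → ℝ} (hw : ∀ g c, w (c * g * c⁻¹) = w g) :
    (Nat.card (Subgroup.centralizer ({z} : Set G)) : ℝ) * sm w (fun g => IsConj z g) = Nat.card G * w z := by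
  classical
  have e3 : ∑ c : G, ∑ g : G, (if c * z * c⁻¹ = g then w g else 0) = Nat.card G * w z := by
    have e1 : ∀ c : G, ∑ g : G, (if c * z * c⁻¹ = g then w g else 0) = w z := by
      intro c
      rw [Finset.sum_ite_eq, if_pos (Finset.mem_univ _), hw]
    rw [Finset.sum_congr rfl fun c _ => e1 c, Finset.sum_const, nsmul_eq_mul, Finset.card_univ, Nat.card_eq_fintype_card]
  rw [← e3, Finset.sum_comm]
  unfold sm
  rw [Finset.mul_sum]
  refine Finset.sum_congr rfl fun g _ => ?_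
  by_cases hg : IsConj z g
  · rw [Set.indicator_of_mem (show g ∈ {g | IsConj z g} from hg), ← Finset.sum_filter, Finset.sum_const, nsmul_eq_mul,
      ← card_conj hg, Nat.card_eq_fintype_card, Fintype.card_subtype]
  · rw [Set.indicator_of_notMem (show g ∉ {g | IsConj z g} from hg), mul_zero]
    symm
    exact Finset.sum_eq_zero fun c _ => if_neg fun h1 => hg (isConj_iff.2 ⟨c, h1⟩)

end

/-! ### characters -/

section

variable {G : Type*} [Group G] [Fintype G]

/-- `∑ |χ|² = |G|`. -/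
theorem sum_sq {χ : G → ℂ} (hχ : IsIrrCharacter G χ) : ∑ z, ‖χ z‖ ^ 2 = (Nat.card G : ℝ) := by
  have h := Characters.Core.classInner_irr_self hχ
  rw [Characters.Core.classInner_def, inv_mul_eq_one₀ Characters.Core.card_ne_zero_complex] at h
  have h2 : ((∑ z, ‖χ z‖ ^ 2 : ℝ) : ℂ) = ∑ g, χ g * conj (χ g) := by
    push_cast
    refine Finset.sum_congr rfl fun z _ => ?_
    rw [Complex.mul_conj, Complex.normSq_eq_norm_sq]
    push_cast
    rfl
  rw [← h] at h2
  exact_mod_cast h2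

theorem conj_sq {χ : G → ℂ} (hχ : IsIrrCharacter G χ) (g c : G) : ‖χ (c * g * c⁻¹)‖ ^ 2 = ‖χ g‖ ^ 2 := by
  obtain ⟨n, ρ, -, rfl⟩ := hχ
  rw [Representation.char_conj]

/-- the section of `u` -/
theorem five_part {p : ℕ} [hp : Fact p.Prime] {u : G} {T : Subgroup G} [Fintype T] (h : Sp p u T) {X : G → ℂ}
    (hX : IsIrrCharacter G X) {θ : T → ℂ} (hθ : IsIrrCharacter T θ) (h0 : ∀ t : T, p ∣ orderOf t → θ t = 0)
    (hv : ∀ t : T, ¬ p ∣ orderOf t → ‖X (u * t)‖ = ‖θ t‖) :
    (p : ℝ) * sm (fun g => ‖X g‖ ^ 2) (Sc p u) = Nat.card G := by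
  have h1 := section_sum h (w := fun g => ‖X g‖ ^ 2) (conj_sq hX)
  have h2 : sm (fun t : T => ‖X (u * t)‖ ^ 2) (fun t : T => ¬ p ∣ orderOf t) = Nat.card T := by
    rw [← sum_sq hθ]
    refine Finset.sum_congr rfl fun t _ => ?_
    by_cases ht : p ∣ orderOf t
    · rw [Set.indicator_of_notMem (show t ∉ {t : T | ¬ p ∣ orderOf t} from fun h3 => h3 ht), h0 t ht, norm_zero,
        zero_pow two_ne_zero]
    · rw [Set.indicator_of_mem (show t ∈ {t : T | ¬ p ∣ orderOf t} from ht), hv t ht]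
  have h3 : (Nat.card T : ℝ) ≠ 0 := Nat.cast_ne_zero.2 Nat.card_pos.ne'
  have h4 : (Nat.card T : ℝ) * ((p : ℝ) * sm (fun g => ‖X g‖ ^ 2) (Sc p u)) = Nat.card T * Nat.card G := by
    rw [h2] at h1
    linarith
  exact mul_left_cancel₀ h3 h4

end

/-! ### the elements of order divisible by `5` in `M₁₂` -/

section

variable {L : Type*} [Group L] [Fintype L]

/-- `y` of prime order `p`, `p² ∤ |L|`, `C(y) = ⟨y⟩ × ⟨t⟩` of order `2 p`, all generators conjugate: the elements of order divisible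
by `p` are conjugate to `y` or `t y`, and there are `|L| / p` of them. -/
theorem card_div {p : ℕ} [hp : Fact p.Prime] (hp2 : p ≠ 2) {y t : L} (hy : orderOf y = p) (ht : orderOf t = 2)
    (hc : Commute t y) (hC : Nat.card (Subgroup.centralizer ({y} : Set L)) = 2 * p) (hL : ¬ p ^ 2 ∣ Nat.card L)
    (hpow : ∀ k : ℕ, ¬ p ∣ k → IsConj y (y ^ k)) :
    p * Nat.card {l : L // p ∣ orderOf l} = Nat.card L ∧ ∀ l : L, p ∣ orderOf l → IsConj y l ∨ IsConj (t * y) l := by
  classical
  have hyt : Sp p y (Subgroup.zpowers t) := by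
    have hcop : Nat.Coprime p 2 := (Nat.coprime_primes hp.out Nat.prime_two).2 hp2
    have hle : Subgroup.zpowers t ≤ Subgroup.centralizer ({y} : Set L) := by
      rw [Subgroup.zpowers_le, Subgroup.mem_centralizer_singleton_iff]
      exact hc.eq
    have hdis : Disjoint (Subgroup.zpowers y) (Subgroup.zpowers t) := by
      apply Subgroup.disjoint_of_coprime_natCard
      rw [Nat.card_zpowers, Nat.card_zpowers, hy, ht]
      exact hcop
    refine ⟨hy, hle, by rw [hC, Nat.card_zpowers, ht, mul_comm], ?_, hdis⟩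
    -- the products fill the centralizer
    let f : Subgroup.zpowers y × Subgroup.zpowers t → Subgroup.centralizer ({y} : Set L) := fun a =>
      ⟨a.1 * a.2, mul_mem (by
        obtain ⟨a1, ha1⟩ := a.1
        obtain ⟨k, rfl⟩ := ha1
        rw [Subgroup.mem_centralizer_singleton_iff]
        exact ((Commute.refl y).zpow_left k).eq) (hle a.2.2)⟩
    have hf : Function.Injective f := by
      rintro ⟨⟨a, ha⟩, ⟨b, hb⟩⟩ ⟨⟨a', ha'⟩, ⟨b', hb'⟩⟩ hab
      have h1 : a * b = a' * b' := congrArg Subtype.val hab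
      have h2 : a'⁻¹ * a = b' * b⁻¹ := by
        rw [inv_mul_eq_iff_eq_mul, ← mul_assoc, ← h1, mul_inv_cancel_right]
      have h3 : a'⁻¹ * a ∈ Subgroup.zpowers y ⊓ Subgroup.zpowers t :=
        ⟨(Subgroup.zpowers y).mul_mem ((Subgroup.zpowers y).inv_mem ha') ha, by
          rw [h2]
          exact (Subgroup.zpowers t).mul_mem hb' ((Subgroup.zpowers t).inv_mem hb)⟩
      rw [disjoint_iff.1 hdis, Subgroup.mem_bot] at h3
      have h4 : a = a' := (inv_mul_eq_one.1 h3).symm
      subst h4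
      have h5 : b = b' := mul_left_cancel h1
      subst h5
      rfl
    have hs : Function.Surjective f := by
      have h1 : Nat.card (Subgroup.zpowers y × Subgroup.zpowers t) =
          Nat.card (Subgroup.centralizer ({y} : Set L)) := by
        rw [Nat.card_prod, Nat.card_zpowers, Nat.card_zpowers, hC, hy, ht, mul_comm]
      exact ((Nat.bijective_iff_injective_and_card f).2 ⟨hf, h1⟩).2
    intro c hcc
    obtain ⟨⟨⟨a, ha⟩, ⟨b, hb⟩⟩, hab⟩ := hs ⟨c, hcc⟩
    obtain ⟨k, hk⟩ := (Submonoid.mem_powers_iff _ _).1 ((mem_powers_iff_mem_zpowers).2 ha)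
    exact ⟨k, b, hb, by rw [hk]; exact (congrArg Subtype.val hab).symm⟩
  have ht2 : ∀ s ∈ Subgroup.zpowers t, s = 1 ∨ s = t := by
    intro s hs
    obtain ⟨k, hk⟩ := (Submonoid.mem_powers_iff _ _).1 ((mem_powers_iff_mem_zpowers).2 hs)
    rw [← hk, ← pow_mod_orderOf, ht]
    rcases Nat.mod_two_eq_zero_or_one k with h | h
    · left; rw [h, pow_zero]
    · right; rw [h, pow_one]
  -- the `p`-parts
  have hsc : ∀ l : L, p ∣ orderOf l ↔ Sc p y l := by
    intro l
    constructor
    · intro hl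
      obtain ⟨x, hx⟩ := exists_isPPart p l
      refine ⟨x, hx, ?_⟩
      obtain ⟨s, rfl, hcomm, ⟨k, hk⟩, hs⟩ := id hx
      have hx1 : x ≠ 1 := by
        rintro rfl
        rw [one_mul] at hl
        exact hs hl
      have hk1 : orderOf x = p := by
        have h1 : orderOf x ∣ Nat.card L := orderOf_dvd_natCard x
        rw [hk] at h1
        have h2 : k < 2 := by
          by_contra h3
          exact hL ((pow_dvd_pow p (not_lt.1 h3)).trans h1)
        have h3 : k ≠ 0 := by
          rintro rfl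
          rw [pow_zero, orderOf_eq_one_iff] at hk
          exact hx1 hk
        have h4 : k = 1 := by omega
        rw [hk, h4, pow_one]
      -- Sylow
      have hcard : (Nat.card L).factorization p = 1 := by
        have h1 : p ∣ Nat.card L := hy ▸ orderOf_dvd_natCard y
        have h2 : 1 ≤ (Nat.card L).factorization p := (Nat.Prime.dvd_iff_one_le_factorization hp.out Nat.card_pos.ne').1 h1
        have h3 : ¬ 2 ≤ (Nat.card L).factorization p := fun h4 =>
          hL ((hp.out.pow_dvd_iff_le_factorization Nat.card_pos.ne').2 h4)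
        omega
      have hS : ∀ z : L, orderOf z = p → ∃ P : Sylow p L, (P : Subgroup L) = Subgroup.zpowers z := by
        intro z hz
        refine ⟨Sylow.ofCard (Subgroup.zpowers z) (by rw [Nat.card_zpowers, hz, hcard, pow_one]), rfl⟩
      obtain ⟨P, hP⟩ := hS x hk1
      obtain ⟨R, hR⟩ := hS y hy
      obtain ⟨g, hg⟩ := MulAction.exists_smul_eq L P R
      have h1 : g * x * g⁻¹ ∈ Subgroup.zpowers y := by
        rw [← hR, ← hg]
        exact ⟨x, by rw [SetLike.mem_coe, hP]; exact Subgroup.mem_zpowers x, rfl⟩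
      obtain ⟨j, hj⟩ := (Submonoid.mem_powers_iff _ _).1 ((mem_powers_iff_mem_zpowers).2 h1)
      have h2 : ¬ p ∣ j := by
        rintro ⟨i, rfl⟩
        rw [pow_mul, ← hy, pow_orderOf_eq_one, one_pow] at hj
        apply hx1
        have h3 : x = g⁻¹ * (g * x * g⁻¹) * g := by group
        rw [h3, ← hj]
        group
      have h3 := hpow j h2
      rw [hj] at h3
      exact h3.trans (isConj_iff.2 ⟨g⁻¹, by group⟩)
    · rintro ⟨x, ⟨s, rfl, hcomm, -, hs⟩, hyx⟩
      have h1 : orderOf x = p := by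
        obtain ⟨c, rfl⟩ := isConj_iff.1 hyx
        rw [← hy]
        exact orderOf_injective (MulAut.conj c).toMonoidHom (MulAut.conj c).injective y
      have h2 : Nat.Coprime (orderOf x) (orderOf s) := by
        rw [h1]
        exact (Nat.Prime.coprime_iff_not_dvd hp.out).2 hs
      rw [hcomm.orderOf_mul_eq_mul_orderOf_of_coprime h2, h1]
      exact Dvd.intro _ rfl
  constructor
  · have h1 := section_sum hyt (w := fun _ => (1 : ℝ)) (fun _ _ => rfl)
    have h2 : sm (fun _ : Subgroup.zpowers t => (1 : ℝ)) (fun s => ¬ p ∣ orderOf s) = 2 := by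
      rw [sm_one]
      have h3 : Nat.card {s : Subgroup.zpowers t // ¬ p ∣ orderOf s} = Nat.card (Subgroup.zpowers t) := by
        refine Nat.card_congr (Equiv.subtypeUnivEquiv fun s => ?_)
        intro h4
        have h5 : orderOf s ∣ Nat.card (Subgroup.zpowers t) := orderOf_dvd_natCard s
        rw [Nat.card_zpowers, ht] at h5
        have h6 := h4.trans h5
        exact hp2 ((Nat.prime_dvd_prime_iff_eq hp.out Nat.prime_two).1 h6)
      rw [h3, Nat.card_zpowers, ht]
      norm_num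
    rw [h2, sm_one, Nat.card_zpowers, ht] at h1
    have h3 : Nat.card {l : L // Sc p y l} = Nat.card {l : L // p ∣ orderOf l} :=
      Nat.card_congr (Equiv.subtypeEquivRight fun l => (hsc l).symm)
    rw [h3] at h1
    have h4 : ((p * Nat.card {l : L // p ∣ orderOf l} : ℕ) : ℝ) = Nat.card L := by
      push_cast
      push_cast at h1
      linarith
    exact_mod_cast h4
  · intro l hl
    obtain ⟨x, hx, hyx⟩ := (hsc l).1 hl
    obtain ⟨c, rfl⟩ := isConj_iff.1 hyx
    have h1 := isPPart_conj hx c⁻¹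
    have h2 : c⁻¹ * (c * y * c⁻¹) * c⁻¹⁻¹ = y := by group
    rw [h2] at h1
    obtain ⟨s, hs, -, hs'⟩ := (hyt.ppart_iff _).1 h1
    have h3 : IsConj (y * s) l := isConj_iff.2 ⟨c, by rw [hs']; group⟩
    rcases ht2 s hs with rfl | rfl
    · left; rwa [mul_one] at h3
    · right; rwa [← hc.eq] at h3

/-- the values on the elements of order divisible by `p` -/
theorem norm_le_one {p : ℕ} [hp : Fact p.Prime] (hp2 : p ≠ 2) {y t : L} (hy : orderOf y = p) (ht : orderOf t = 2)
    (hc : Commute t y) (hC : Nat.card (Subgroup.centralizer ({y} : Set L)) = 2 * p) (hL : ¬ p ^ 2 ∣ Nat.card L)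
    (hpow : ∀ k : ℕ, ¬ p ∣ k → IsConj y (y ^ k)) {f : L → ℂ} (hf : ∀ g c, f (c * g * c⁻¹) = f g) {c : ℤ}
    (hc1 : c = 1 ∨ c = -1) (h1 : f y = c) (h2 : f (t * y) = c) {l : L} (hl : p ∣ orderOf l) : ‖f l‖ ≤ 1 := by
  have hcc : ‖(c : ℂ)‖ ≤ 1 := by
    rcases hc1 with rfl | rfl <;> simp
  rcases (card_div hp2 hy ht hc hC hL hpow).2 l hl with h | h
  · obtain ⟨a, rfl⟩ := isConj_iff.1 h
    rw [hf, h1]
    exact hcc
  · obtain ⟨a, rfl⟩ := isConj_iff.1 h
    rw [hf, h2]
    exact hcc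

end

/-! ### the inequality -/

section

variable {G : Type*} [Group G] [Fintype G]

/-- the elements with `5`-part in `5A` and order divisible by `11` -/
theorem overlap {x u : G} {L : Subgroup G} [Fintype L] (hx : Sp 11 x L) {X : G → ℂ} (hX : IsIrrCharacter G X)
    (h11 : ∀ g : G, 11 ∣ orderOf g → Sc 11 x g) (hu : orderOf u = 5)
    (h5 : 5 * Nat.card {l : L // 5 ∣ orderOf l} = Nat.card L) (hf : ∀ l : L, 5 ∣ orderOf l → ‖X (x * l)‖ ≤ 1) :
    (55 : ℝ) * sm (fun g => ‖X g‖ ^ 2) (fun g => Sc 5 u g ∧ 11 ∣ orderOf g) ≤ Nat.card G := by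
  classical
  have hp : Fact (Nat.Prime 11) := ⟨by norm_num⟩
  have hp5 : Fact (Nat.Prime 5) := ⟨by norm_num⟩
  let w : G → ℝ := fun g => if Sc 5 u g then ‖X g‖ ^ 2 else 0
  have hw0 : ∀ g, 0 ≤ w g := by
    intro g
    show 0 ≤ (if Sc 5 u g then ‖X g‖ ^ 2 else 0)
    split_ifs
    · positivity
    · exact le_refl _
  have hw : ∀ g c, w (c * g * c⁻¹) = w g := by
    intro g c
    show (if Sc 5 u (c * g * c⁻¹) then ‖X (c * g * c⁻¹)‖ ^ 2 else 0) = if Sc 5 u g then ‖X g‖ ^ 2 else 0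
    rw [conj_sq hX]
    simp only [Sc.conj_iff]
  have h1 := section_sum hx hw
  have h2 : sm (fun g => ‖X g‖ ^ 2) (fun g => Sc 5 u g ∧ 11 ∣ orderOf g) ≤ sm w (Sc 11 x) :=
    sm_mono (fun g hg => h11 g hg.2) (fun g hg => by
      show _ ≤ (if Sc 5 u g then ‖X g‖ ^ 2 else 0)
      rw [if_pos hg.1]) hw0
  have h3 : sm (fun l : L => w (x * l)) (fun l : L => ¬ 11 ∣ orderOf l) ≤ sm (fun _ : L => (1 : ℝ)) (fun l : L => 5 ∣ orderOf l) := by
    refine Finset.sum_le_sum fun l _ => ?_
    by_cases hl : ¬ 11 ∣ orderOf l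
    · rw [Set.indicator_of_mem (show l ∈ {l : L | ¬ 11 ∣ orderOf l} from hl)]
      by_cases hl5 : 5 ∣ orderOf l
      · rw [Set.indicator_of_mem (show l ∈ {l : L | 5 ∣ orderOf l} from hl5)]
        show (if Sc 5 u (x * l) then ‖X (x * l)‖ ^ 2 else 0) ≤ 1
        split_ifs
        · exact pow_le_one₀ (norm_nonneg _) (hf l hl5)
        · exact zero_le_one
      · rw [Set.indicator_of_notMem (show l ∉ {l : L | 5 ∣ orderOf l} from hl5)]
        show (if Sc 5 u (x * l) then ‖X (x * l)‖ ^ 2 else 0) ≤ 0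
        rw [if_neg]
        rintro ⟨s, hs, hus⟩
        have h4 : IsPPart 5 (x * (l : G)) 1 := by
          apply isPPart_of_not_dvd
          intro h5'
          have h6 : Commute x (l : G) := hx.comm l.2
          have h7 := h5'.trans h6.orderOf_mul_dvd_mul_orderOf
          rw [hx.ord, Subgroup.orderOf_coe] at h7
          rcases (Nat.Prime.dvd_mul (by norm_num)).1 h7 with h8 | h8
          · norm_num at h8
          · exact hl5 h8
        have h8 := isPPart_unique hs h4
        rw [h8] at hus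
        obtain ⟨c, hc⟩ := isConj_iff.1 hus
        have h9 : u = 1 := by
          have : u = c⁻¹ * (c * u * c⁻¹) * c := by group
          rw [this, hc]
          group
        rw [h9, orderOf_one] at hu
        norm_num at hu
    · rw [Set.indicator_of_notMem (show l ∉ {l : L | ¬ 11 ∣ orderOf l} from hl)]
      exact Set.indicator_nonneg (fun _ _ => zero_le_one) l
  rw [sm_one] at h3
  have h6 : (Nat.card L : ℝ) = 5 * Nat.card {l : L // 5 ∣ orderOf l} := by
    rw [← h5]
    push_cast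
    ring
  have hLpos : (0 : ℝ) < Nat.card L := Nat.cast_pos.2 Nat.card_pos
  have hGpos : (0 : ℝ) ≤ Nat.card G := Nat.cast_nonneg _
  push_cast at h1
  have h7 : (11 : ℝ) * Nat.card L * sm w (Sc 11 x) ≤ Nat.card G * Nat.card {l : L // 5 ∣ orderOf l} := by
    rw [h1]
    exact mul_le_mul_of_nonneg_left h3 hGpos
  have h8 : (55 : ℝ) * Nat.card L * sm w (Sc 11 x) ≤ Nat.card G * Nat.card L := by
    calc (55 : ℝ) * Nat.card L * sm w (Sc 11 x) = 5 * (11 * Nat.card L * sm w (Sc 11 x)) := by ring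
      _ ≤ 5 * (Nat.card G * Nat.card {l : L // 5 ∣ orderOf l}) := by linarith
      _ = _ := by rw [h6]; ring
  have h9 : (55 : ℝ) * sm w (Sc 11 x) ≤ Nat.card G := by
    have h10 : (55 * sm w (Sc 11 x)) * (Nat.card L : ℝ) ≤ Nat.card G * Nat.card L := by linarith
    exact le_of_mul_le_mul_right h10 hLpos
  linarith

/-- **[NORM]** -/
theorem norm_total {X : G → ℂ} (hX : IsIrrCharacter G X) {u v z : G} {n₁ n₂ zz : ℤ}
    (hu : orderOf u = 5) (hu13 : ¬ 13 ∣ Nat.card (Subgroup.centralizer ({u} : Set G)))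
    (h5 : (5 : ℝ) * sm (fun g => ‖X g‖ ^ 2) (Sc 5 u) = Nat.card G)
    (hover : (55 : ℝ) * sm (fun g => ‖X g‖ ^ 2) (fun g => Sc 5 u g ∧ 11 ∣ orderOf g) ≤ Nat.card G)
    (h143 : ∀ g : G, 11 ∣ orderOf g → ¬ 13 ∣ orderOf g)
    (h11 : n₁ * (Nat.card G : ℝ) ≤ 121 * sm (fun g => ‖X g‖ ^ 2) (fun g => 11 ∣ orderOf g))
    (hv : orderOf v = 13) (hz : orderOf z = 13) (hvz : ¬ IsConj v z)
    (h13 : n₂ * (Nat.card G : ℝ) ≤ 169 * sm (fun g => ‖X g‖ ^ 2) (Sc 13 v))
    (hcz : Nat.card (Subgroup.centralizer ({z} : Set G)) = 52728) (hXz : X z = zz) :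
    n₁ * 169 * 52728 + n₂ * 121 * 52728 + zz ^ 2 * 121 * 169 ≤ 9 * 11 * 169 * 52728 := by
  classical
  have hp5 : Fact (Nat.Prime 5) := ⟨by norm_num⟩
  have hp13 : Fact (Nat.Prime 13) := ⟨by norm_num⟩
  have hord : ∀ {a b : G}, IsConj a b → orderOf a = orderOf b := by
    rintro a b hab
    obtain ⟨c, rfl⟩ := isConj_iff.1 hab
    exact (orderOf_injective (MulAut.conj c).toMonoidHom (MulAut.conj c).injective a).symm
  -- orders of the elements of the sections
  have hdvd13 : ∀ g, Sc 13 v g → 13 ∣ orderOf g := by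
    rintro g ⟨x, hx, hvx⟩
    obtain ⟨n, hn⟩ := exists_pow_eq (G := G) 13
    have h1 := orderOf_pow_dvd (x := g) n
    rwa [hn g x hx, ← hord hvx, hv] at h1
  have hD1 : ∀ g, Sc 5 u g → ¬ 13 ∣ orderOf g := by
    rintro g ⟨x, hx, hux⟩ h
    obtain ⟨c, rfl⟩ := isConj_iff.1 hux
    have h1 := isPPart_conj hx c⁻¹
    have h2 : c⁻¹ * (c * u * c⁻¹) * c⁻¹⁻¹ = u := by group
    rw [h2] at h1
    obtain ⟨s, hs, hcomm, -, -⟩ := h1
    have h3 : c⁻¹ * g * c⁻¹⁻¹ ∈ Subgroup.centralizer ({u} : Set G) := by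
      rw [← hs, Subgroup.mem_centralizer_singleton_iff]
      exact ((Commute.refl u).mul_left hcomm.symm).eq
    have h4 : orderOf (c⁻¹ * g * c⁻¹⁻¹) = orderOf g :=
      orderOf_injective (MulAut.conj c⁻¹).toMonoidHom (MulAut.conj c⁻¹).injective g
    have h5' := Subgroup.orderOf_dvd_natCard _ h3
    rw [h4] at h5'
    exact hu13 (h.trans h5')
  have hD4 : ∀ g, IsConj z g → orderOf g = 13 := fun g hg => by rw [← hord hg, hz]
  have hD5 : ∀ g, Sc 13 v g → ¬ IsConj z g := by
    rintro g ⟨x, hx, hvx⟩ hzg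
    have h1 : IsPPart 13 g g := isPPart_of_isPGroup ⟨1, by rw [hD4 g hzg, pow_one]⟩
    have h2 := isPPart_unique hx h1
    rw [h2] at hvx
    exact hvz (hvx.trans hzg.symm)
  -- the sum
  have hsum : sm (fun g => ‖X g‖ ^ 2) (Sc 5 u) + sm (fun g => ‖X g‖ ^ 2) (fun g => 11 ∣ orderOf g) +
      sm (fun g => ‖X g‖ ^ 2) (Sc 13 v) + sm (fun g => ‖X g‖ ^ 2) (fun g => IsConj z g) ≤
      Nat.card G + sm (fun g => ‖X g‖ ^ 2) (fun g => Sc 5 u g ∧ 11 ∣ orderOf g) := by
    rw [← sum_sq hX]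
    unfold sm
    rw [← Finset.sum_add_distrib, ← Finset.sum_add_distrib, ← Finset.sum_add_distrib, ← Finset.sum_add_distrib]
    refine Finset.sum_le_sum fun g _ => ?_
    have hw : 0 ≤ ‖X g‖ ^ 2 := by positivity
    simp only [Set.indicator_apply, Set.mem_ofPred_eq]
    by_cases hA : Sc 5 u g
    · have hC : ¬ Sc 13 v g := fun h => hD1 g hA (hdvd13 g h)
      have hD : ¬ IsConj z g := fun h => hD1 g hA (by rw [hD4 g h])
      by_cases hB : 11 ∣ orderOf g
      · simp only [hA, hB, hC, hD, if_true, if_false, true_and, false_and, and_true, and_false, and_self, add_zero, zero_add, le_refl]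
      · simp only [hA, hB, hC, hD, if_true, if_false, true_and, false_and, and_true, and_false, and_self, add_zero, zero_add, le_refl]
    · by_cases hB : 11 ∣ orderOf g
      · have hC : ¬ Sc 13 v g := fun h => h143 g hB (hdvd13 g h)
        have hD : ¬ IsConj z g := fun h => h143 g hB (by rw [hD4 g h])
        simp only [hA, hB, hC, hD, if_true, if_false, true_and, false_and, and_true, and_false, and_self, add_zero, zero_add, le_refl]
      · by_cases hC : Sc 13 v g
        · simp only [hA, hB, hC, hD5 g hC, if_true, if_false, true_and, false_and, and_true, and_false, and_self, add_zero, zero_add, le_refl]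
        · by_cases hD : IsConj z g
          · simp only [hA, hB, hC, hD, if_true, if_false, true_and, false_and, and_true, and_false, and_self, add_zero, zero_add, le_refl]
          · simp only [hA, hB, hC, hD, if_false, false_and, add_zero]
            exact hw
  have hcl := class_sum z (w := fun g => ‖X g‖ ^ 2) (conj_sq hX)
  have hzz : ‖X z‖ ^ 2 = (zz : ℝ) ^ 2 := by
    rw [hXz, Complex.norm_intCast, sq_abs]
  rw [hcz] at hcl
  simp only [hzz] at hcl
  obtain ⟨N, hN⟩ : ∃ N : ℝ, N = Nat.card G := ⟨_, rfl⟩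
  have hNpos : 0 < N := by rw [hN]; exact Nat.cast_pos.2 Nat.card_pos
  rw [← hN] at h5 hover h11 h13 hsum hcl
  push_cast at hcl
  have key : ((n₁ * 169 * 52728 + n₂ * 121 * 52728 + zz ^ 2 * 121 * 169 : ℤ) : ℝ) * N ≤
      ((9 * 11 * 169 * 52728 : ℤ) : ℝ) * N := by
    push_cast
    nlinarith [h5, hover, h11, h13, hsum, hcl]
  have key2 := le_of_mul_le_mul_right key hNpos
  exact_mod_cast key2

end

end Cfsg.Agent.H994.M23.Norm
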