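import Cfsg.Agent.H994.M23.Norm
import Cfsg.Agent.H691.M23.Main
import Cfsg.Agent.H66.M23.Eleven
import Cfsg.Agent.H715.Fpr.MathData

/-!
# (M,23) of S4929/S4928: the final combination of the sections (helper994)

* `five_M12` : `|C(y)| = 10` and `y` is rational, for `y` of order `5` in `M₁₂`;
* `Loc11 G` : the elements of order `11` (true for the Monster, `loc11`); `not_143`, `sc_eleven`;
* `spOfHyp` : `C(u) = ⟨u⟩ × T` in the form `Sp`;
* `Out11`, `Out13` : what the sections of `11` and `13` give;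
* `secFacts_of` : `SecFacts` from `Five`, `Loc11`, `Out11`, `Out13`.
-/

set_option autoImplicit false

namespace Cfsg.Agent.H994.M23.Fin

open Cfsg Cfsg.Agent.H994.M23.Norm Cfsg.Agent.Blocks.PPart
open Cfsg.Agent.H66.M23.Loc (DP)
open Cfsg.Agent.H691.M23 (Five RV SecFacts)
open Cfsg.Agent.H924.M23 (Sec11 Sec13)
open scoped ComplexConjugate

/-! ### elements of order 5 in `M₁₂` -/

theorem card_cent_equiv {A B : Type*} [Group A] [Group B] (e : A ≃* B) (y : A) :
    Nat.card (Subgroup.centralizer ({y} : Set A)) = Nat.card (Subgroup.centralizer ({e y} : Set B)) := by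
  refine Nat.card_congr (e.toEquiv.subtypeEquiv fun c => ?_)
  change c ∈ Subgroup.centralizer ({y} : Set A) ↔ e c ∈ Subgroup.centralizer ({e y} : Set B)
  rw [Subgroup.mem_centralizer_singleton_iff, Subgroup.mem_centralizer_singleton_iff, ← map_mul, ← map_mul,
    e.injective.eq_iff]

/-- `y` of order `p` with `|N(y)| = (p - 1) |C(y)|` is rational -/
theorem rational {A : Type*} [Group A] [Finite A] {p : ℕ} [hp : Fact p.Prime] {y : A} (hy : orderOf y = p)
    (h : Nat.card (Subgroup.normalizer ((Subgroup.zpowers y : Subgroup A) : Set A)) =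
      (p - 1) * Nat.card (Subgroup.centralizer ({y} : Set A))) {k : ℕ} (hk : ¬ p ∣ k) : IsConj y (y ^ k) := by
  classical
  have : Fintype A := Fintype.ofFinite A
  obtain ⟨N, hN⟩ : ∃ N : Subgroup A, N = Subgroup.normalizer ((Subgroup.zpowers y : Subgroup A) : Set A) := ⟨_, rfl⟩
  let S : Finset A := Finset.univ.filter fun n => n ∈ N
  let P : Finset A := (Finset.range p).erase 0 |>.image fun i => y ^ i
  have hS : S.card = (p - 1) * Nat.card (Subgroup.centralizer ({y} : Set A)) := by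
    rw [← h, ← hN, Nat.card_eq_fintype_card, Fintype.card_subtype]
  have hPc : P.card ≤ p - 1 := by
    refine Finset.card_image_le.trans ?_
    rw [Finset.card_erase_of_mem (Finset.mem_range.2 hp.out.pos), Finset.card_range]
  have hSP : S.image (fun n => n * y * n⁻¹) ⊆ P := by
    intro x hx
    obtain ⟨n, hn, rfl⟩ := Finset.mem_image.1 hx
    have hn' : n ∈ N := (Finset.mem_filter.1 hn).2
    rw [hN, Subgroup.mem_normalizer_iff] at hn'
    have h1 := (hn' y).1 (Subgroup.mem_zpowers y)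
    obtain ⟨i, hi⟩ := (Submonoid.mem_powers_iff _ _).1 ((mem_powers_iff_mem_zpowers).2 h1)
    refine Finset.mem_image.2 ⟨i % p, ?_, ?_⟩
    · rw [Finset.mem_erase, Finset.mem_range]
      refine ⟨fun h0 => ?_, Nat.mod_lt _ hp.out.pos⟩
      have h2 : y ^ i = 1 := by rw [← orderOf_dvd_iff_pow_eq_one, hy]; exact Nat.dvd_of_mod_eq_zero h0
      rw [h2] at hi
      have h3 : y = 1 := by
        have : y = n⁻¹ * (n * y * n⁻¹) * n := by group
        rw [this, ← hi]
        group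
      rw [h3, orderOf_one] at hy
      exact hp.out.one_lt.ne hy
    · show y ^ (i % p) = _
      rw [← hi, ← hy, pow_mod_orderOf]
  have hfib : ∀ a ∈ S.image (fun n => n * y * n⁻¹), (S.filter fun n => n * y * n⁻¹ = a).card ≤
      Nat.card (Subgroup.centralizer ({y} : Set A)) := by
    intro a ha
    obtain ⟨n, -, hna⟩ := Finset.mem_image.1 ha
    rw [← card_conj (isConj_iff.2 ⟨n, hna⟩), Nat.card_eq_fintype_card, Fintype.card_subtype]
    refine Finset.card_le_card fun m hm => ?_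
    rw [Finset.mem_filter] at hm ⊢
    exact ⟨Finset.mem_univ _, hm.2⟩
  have h1 := Finset.card_le_mul_card_image S _ hfib
  rw [hS, mul_comm] at h1
  have h2 : p - 1 ≤ (S.image (fun n => n * y * n⁻¹)).card := le_of_mul_le_mul_left h1 Nat.card_pos
  have h3 : S.image (fun n => n * y * n⁻¹) = P := Finset.eq_of_subset_of_card_le hSP (hPc.trans h2)
  have h4 : y ^ k ∈ P := by
    refine Finset.mem_image.2 ⟨k % p, ?_, ?_⟩
    · rw [Finset.mem_erase, Finset.mem_range]
      exact ⟨fun h0 => hk (Nat.dvd_of_mod_eq_zero h0), Nat.mod_lt _ hp.out.pos⟩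
    · show y ^ (k % p) = _
      rw [← hy, pow_mod_orderOf]
  rw [← h3] at h4
  obtain ⟨n, -, hn⟩ := Finset.mem_image.1 h4
  exact isConj_iff.2 ⟨n, hn⟩

theorem five_M12 {L : Type*} [Group L] (e : L ≃* Spor.M12) {y : L} (hy : orderOf y = 5) :
    Nat.card (Subgroup.centralizer ({y} : Set L)) = 10 ∧ ∀ k : ℕ, ¬ 5 ∣ k → IsConj y (y ^ k) := by
  have hfin : Finite Spor.M12 := Nat.finite_of_card_ne_zero (by
    rw [Cfsg.Agent.MTwelveType.SylowModel.card_M12]; norm_num)
  have hfinL : Finite L := Finite.of_equiv _ e.toEquiv.symm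
  have hp : Fact (Nat.Prime 5) := ⟨by norm_num⟩
  have hy' : orderOf (e y) = 5 := by rw [MulEquiv.orderOf_eq, hy]
  obtain ⟨h1, h2⟩ := Cfsg.Agent.H715.Fpr.MathData.cn12_5 (R := Subgroup.zpowers (e y)) (by rw [Nat.card_zpowers, hy'])
  have h3 : Subgroup.centralizer ((Subgroup.zpowers (e y) : Subgroup Spor.M12) : Set Spor.M12) =
      Subgroup.centralizer ({e y} : Set Spor.M12) := by
    rw [Subgroup.zpowers_eq_closure, Subgroup.centralizer_closure]
  rw [h3] at h1
  refine ⟨by rw [card_cent_equiv e, h1], fun k hk => ?_⟩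
  have h4 : IsConj (e y) ((e y) ^ k) := rational hy' (by rw [h1, h2]) hk
  obtain ⟨c, hc⟩ := isConj_iff.1 h4
  refine isConj_iff.2 ⟨e.symm c, e.injective ?_⟩
  rw [map_mul, map_mul, map_inv, MulEquiv.apply_symm_apply, hc, map_pow]

/-! ### the elements of order 11 -/

theorem toSp {G S : Type} [Group G] [Group S] {p : ℕ} {v : G} {T : Subgroup G} (h : DP S p v T) : Sp p v T :=
  ⟨h.ord, h.le, h.card, h.split, h.disj⟩

/-- the elements of order 11 -/
structure Loc11 (G : Type) [Group G] : Prop where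
  dp : ∀ x : G, orderOf x = 11 → ∃ L : Subgroup G, DP Spor.M12 11 x L
  cl : ∀ x y : G, orderOf x = 11 → orderOf y = 11 → IsConj x y

section

variable {G : Type} [Group G] [Finite G]

theorem not_143 (E : Loc11 G) {g : G} (h11 : 11 ∣ orderOf g) : ¬ 13 ∣ orderOf g := by
  intro h13
  obtain ⟨m, hm⟩ := h11
  have hm0 : m ≠ 0 := by
    rintro rfl
    exact (orderOf_pos g).ne' hm
  have hx : orderOf (g ^ m) = 11 := by
    rw [orderOf_pow_of_dvd hm0 ⟨11, by rw [hm, mul_comm]⟩, hm, Nat.mul_div_cancel _ (Nat.pos_of_ne_zero hm0)]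
  obtain ⟨L, hL⟩ := E.dp _ hx
  obtain ⟨e⟩ := hL.iso
  have hg : g ∈ Subgroup.centralizer ({g ^ m} : Set G) := by
    rw [Subgroup.mem_centralizer_singleton_iff]
    exact ((Commute.refl g).pow_right m).eq
  have h1 := Subgroup.orderOf_dvd_natCard _ hg
  rw [hL.card, Nat.card_congr e.toEquiv, Cfsg.Agent.MTwelveType.SylowModel.card_M12] at h1
  exact (by norm_num : ¬ 13 ∣ 11 * 95040) (h13.trans h1)

theorem sc_eleven (E : Loc11 G) {x g : G} (hx : orderOf x = 11) (hg : 11 ∣ orderOf g) : Sc 11 x g := by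
  have hp : Fact (Nat.Prime 11) := ⟨by norm_num⟩
  obtain ⟨a, ha⟩ := exists_isPPart 11 g
  refine ⟨a, ha, E.cl x a hx ?_⟩
  obtain ⟨s, rfl, hcomm, ⟨k, hk⟩, hs⟩ := id ha
  have hk0 : k ≠ 0 := by
    rintro rfl
    rw [pow_zero, orderOf_eq_one_iff] at hk
    rw [hk, one_mul] at hg
    exact hs hg
  have hk2 : k < 2 := by
    by_contra h
    obtain ⟨j, rfl⟩ : ∃ j, k = j + 2 := ⟨k - 2, by omega⟩
    have h1 : orderOf (a ^ 11 ^ (j + 1)) = 11 := by
      rw [orderOf_pow_of_dvd (pow_ne_zero _ (by norm_num)) (by rw [hk]; exact pow_dvd_pow 11 (by omega)), hk,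
        show j + 2 = (j + 1) + 1 from rfl, pow_succ 11 (j + 1), Nat.mul_div_cancel_left _ (pow_pos (by norm_num) _)]
    obtain ⟨L, hL⟩ := E.dp _ h1
    have h2 : a ∈ Subgroup.centralizer ({a ^ 11 ^ (j + 1)} : Set G) := by
      rw [Subgroup.mem_centralizer_singleton_iff]
      exact ((Commute.refl a).pow_right _).eq
    obtain ⟨i, l, hl, hil⟩ := hL.split a h2
    have h3 : Commute (a ^ 11 ^ (j + 1)) l := (toSp hL).comm hl
    have h4 : a ^ 11 ∈ L := by
      have h5 : a ^ 11 = ((a ^ 11 ^ (j + 1)) ^ i * l) ^ 11 := by rw [← hil]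
      have h6 : (a ^ 11 ^ (j + 1)) ^ 11 = 1 := by
        have h7 := pow_orderOf_eq_one (a ^ 11 ^ (j + 1))
        rwa [h1] at h7
      rw [h5, (h3.pow_left i).mul_pow, ← pow_mul, mul_comm i 11, pow_mul, h6, one_pow, one_mul]
      exact pow_mem hl _
    apply hL.not_mem
    rw [pow_succ' 11 j, pow_mul]
    exact pow_mem h4 _
  have hk1 : k = 1 := by omega
  rw [hk, hk1, pow_one]

end

/-- the Monster -/
theorem loc11 : Loc11 Cfsg.Agent.H241.Mon.Gam :=
  ⟨fun _ hx => (Cfsg.Agent.H66.M23.Eleven.all hx).1, fun _ _ hx hy => Cfsg.Agent.H66.M23.Eleven.isConj hx hy⟩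

/-! ### the section of `u` -/

section

universe v

variable {G : Type v} [Group G] [Finite G]

theorem spOfHyp {p : ℕ} [hp : Fact p.Prime] {u : G} {C T : Subgroup G} {θ : T → ℂ}
    (h : H591.M23.Blk.Hyp p u C T θ) : Sp p u T := by
  obtain ⟨E, hE⟩ := Cfsg.Agent.H66.LD.Three.exists_equiv h.ord h.cent h.le h.card h.notMem
  refine ⟨h.ord, by rw [← h.cent]; exact h.le, by rw [← h.cent, h.card], ?_, ?_⟩
  · intro c hc
    rw [← h.cent] at hc
    obtain ⟨⟨x, t⟩, hxt⟩ := E.surjective ⟨c, hc⟩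
    obtain ⟨k, hk⟩ := (Submonoid.mem_powers_iff _ _).1 ((mem_powers_iff_mem_zpowers).2 x.2)
    refine ⟨k, t, t.2, ?_⟩
    rw [hk, ← hE, hxt]
  · rw [Subgroup.disjoint_def]
    intro x hx hxT
    have h1 : E (⟨x, hx⟩, ⟨x⁻¹, inv_mem hxT⟩) = E 1 := by
      rw [map_one]
      apply Subtype.ext
      rw [hE]
      simp
    have h2 := congrArg Prod.fst (E.injective h1)
    exact congrArg Subtype.val h2

end

/-! ### the combination -/

/-- what the elements of order divisible by `11` give: the numbers and the norm -/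
def Out11 {G : Type} [Group G] [Fintype G] (X : G → ℂ) (c d b w : ℤ) : Prop :=
  ∃ n : ℤ, Sec11 c d b w n ∧ n * (Nat.card G : ℝ) ≤ 121 * sm (fun g => ‖X g‖ ^ 2) (fun g => 11 ∣ orderOf g)

/-- what the elements of order divisible by `13` give -/
def Out13 {G : Type} [Group G] [Fintype G] (X : G → ℂ) (d b : ℤ) : Prop :=
  ∃ (v z : G) (n zz : ℤ), orderOf v = 13 ∧ orderOf z = 13 ∧ ¬ IsConj v z ∧
    Nat.card (Subgroup.centralizer ({z} : Set G)) = 52728 ∧ X z = zz ∧ Sec13 d b n zz ∧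
    n * (Nat.card G : ℝ) ≤ 169 * sm (fun g => ‖X g‖ ^ 2) (Sc 13 v)

/-- **The combination.** -/
theorem secFacts_of {G : Type} [Group G] [Finite G] [Fintype G] {u : G} {C T : Subgroup G} [Fintype T] {θ : T → ℂ}
    {t y : T} (F : Five u C T θ t y) (E : Loc11 G)
    (H11 : ∀ (X : IrrCharacter G) {d b w c : ℤ}, RV X → (X : G → ℂ) 1 = d → (X : G → ℂ) t = b → (c = 1 ∨ c = -1) →
      centralChar (X : G → ℂ) (t : G) = w → (∀ s : T, ¬ 5 ∣ orderOf s → (X : G → ℂ) (u * s) = c * θ s) →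
      Out11 (X : G → ℂ) c d b w)
    (H13 : ∀ (X : IrrCharacter G) {d b : ℤ}, RV X → (X : G → ℂ) 1 = d → (X : G → ℂ) t = b → Out13 (X : G → ℂ) d b) :
    SecFacts u T θ t := by
  classical
  intro X d b w c hXr hd hb hc hw hval
  obtain ⟨n₁, hs11, hn11⟩ := H11 X hXr hd hb hc hw hval
  obtain ⟨v, z, n₂, zz, hv, hz, hvz, hcz, hXz, hs13, hn13⟩ := H13 X hXr hd hb
  refine ⟨n₁, n₂, zz, hs11, hs13, ?_⟩
  have hp5 : Fact (Nat.Prime 5) := ⟨by norm_num⟩
  obtain ⟨M, hM⟩ := Cfsg.Agent.Blocks.ExistsModular.exists_isPModular Nat.prime_five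
  have hXi : IsIrrCharacter G (X : G → ℂ) := X.2
  have hcls : ∀ g a : G, (X : G → ℂ) (a * g * a⁻¹) = (X : G → ℂ) g := by
    obtain ⟨n, ρ, -, hρ⟩ := X.2
    intro g a
    rw [← hρ, Representation.char_conj]
  have hu : orderOf u = 5 := F.hyp.ord
  have hcu : Nat.card (Subgroup.centralizer ({u} : Set G)) = 1365154560000000 := by
    rw [← F.hyp.cent, F.hyp.card, F.cardT]
  have hSu : Sp 5 u T := spOfHyp F.hyp
  have hcn : ‖(c : ℂ)‖ = 1 := by rcases hc with rfl | rfl <;> simp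
  have h5 : (5 : ℝ) * sm (fun g => ‖(X : G → ℂ) g‖ ^ 2) (Sc 5 u) = Nat.card G := by
    have := five_part hSu hXi F.hyp.irr (fun s hs => F.hyp.zero hM hs)
      (fun s hs => by rw [hval s hs, norm_mul, hcn, one_mul])
    exact_mod_cast this
  -- the group `L`
  have hyo : orderOf (y : G) = 11 := by rw [Subgroup.orderOf_coe, F.oy]
  have hto : orderOf (t : G) = 2 := by rw [Subgroup.orderOf_coe, F.ot]
  have hty : Commute (t : G) (y : G) := congrArg Subtype.val F.comm.eq
  have huy : Commute u (y : G) := F.hyp.comm y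
  have hut : Commute u (t : G) := F.hyp.comm t
  obtain ⟨L, hL⟩ := E.dp y hyo
  obtain ⟨e⟩ := hL.iso
  have hSy := toSp hL
  have hp11 : Fact (Nat.Prime 11) := ⟨by norm_num⟩
  have huL : u ∈ L := hSy.reg_mem (Subgroup.mem_centralizer_singleton_iff.2 huy.eq) (by rw [hu]; norm_num)
  have htL : (t : G) ∈ L := hSy.reg_mem (Subgroup.mem_centralizer_singleton_iff.2 hty.eq) (by rw [hto]; norm_num)
  have hfL : Fintype L := Fintype.ofFinite L
  have hcL : Nat.card L = 95040 := by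
    rw [Nat.card_congr e.toEquiv, Cfsg.Agent.MTwelveType.SylowModel.card_M12]
  have ho5 : orderOf (⟨u, huL⟩ : L) = 5 := by rw [Subgroup.orderOf_mk, hu]
  have ho2 : orderOf (⟨t, htL⟩ : L) = 2 := by rw [Subgroup.orderOf_mk, hto]
  have hcm : Commute (⟨t, htL⟩ : L) ⟨u, huL⟩ := Subtype.ext hut.symm.eq
  obtain ⟨hC10, hrat⟩ := five_M12 e ho5
  have h25 : ¬ 5 ^ 2 ∣ Nat.card L := by rw [hcL]; norm_num
  have hdiv := (card_div (p := 5) (by norm_num) ho5 ho2 hcm hC10 h25 hrat).1
  have h11y : ¬ 5 ∣ orderOf y := by rw [F.oy]; norm_num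
  have h22 : ¬ 5 ∣ orderOf (t * y) := by
    rw [F.comm.orderOf_mul_eq_mul_orderOf_of_coprime (by rw [F.ot, F.oy]; norm_num), F.ot, F.oy]
    norm_num
  have hover : (55 : ℝ) * sm (fun g => ‖(X : G → ℂ) g‖ ^ 2) (fun g => Sc 5 u g ∧ 11 ∣ orderOf g) ≤ Nat.card G := by
    refine overlap hSy hXi (fun g hg => sc_eleven E hyo hg) hu hdiv fun l hl => ?_
    refine norm_le_one (p := 5) (by norm_num) ho5 ho2 hcm hC10 h25 hrat (f := fun l : L => (X : G → ℂ) (y * l))
      ?_ hc ?_ ?_ hl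
    · intro l a
      have h1 : (y : G) * ((a * l * a⁻¹ : L) : G) = (a : G) * ((y : G) * l) * (a : G)⁻¹ := by
        have h2 : Commute (y : G) (a : G) := hSy.comm a.2
        push_cast
        rw [← mul_assoc, ← mul_assoc, h2.eq, mul_assoc (a : G) (y : G) l]
      show (X : G → ℂ) ((y : G) * ((a * l * a⁻¹ : L) : G)) = _
      rw [h1, hcls]
    · show (X : G → ℂ) ((y : G) * u) = c
      rw [← huy.eq, hval y h11y, F.vy, mul_one]
    · show (X : G → ℂ) ((y : G) * ((t : G) * u)) = c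
      have h1 : (y : G) * ((t : G) * u) = u * ((t * y : T) : G) := by
        push_cast
        rw [← hut.eq, ← mul_assoc, ← huy.eq, mul_assoc, ← hty.eq]
      rw [h1, hval _ h22, F.vty, mul_one]
  exact norm_total hXi hu (by rw [hcu]; norm_num) h5 hover (fun g hg => not_143 E hg) hn11 hv hz hvz hn13 hcz hXz

end Cfsg.Agent.H994.M23.Fin
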